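import Cfsg.Agent.Helper98.HeMult.C2Data

set_option autoImplicit false
set_option maxRecDepth 10000000
set_option maxHeartbeats 0

namespace Cfsg.Agent.Helper98.HeM

open Cfsg.Agent.Helper7.ModTC

theorem c2_chk9 : c2P.cert.chkRange 8064 896 = true := by decide +kernel

end Cfsg.Agent.Helper98.HeM
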