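import Cfsg.Agent.Helper98.HeMult.C2Chk0
import Cfsg.Agent.Helper98.HeMult.C2Node0
import Cfsg.Agent.Helper98.HeMult.C2Chk1
import Cfsg.Agent.Helper98.HeMult.C2Node1
import Cfsg.Agent.Helper98.HeMult.C2Chk2
import Cfsg.Agent.Helper98.HeMult.C2Node2
import Cfsg.Agent.Helper98.HeMult.C2Chk3
import Cfsg.Agent.Helper98.HeMult.C2Node3
import Cfsg.Agent.Helper98.HeMult.C2Chk4
import Cfsg.Agent.Helper98.HeMult.C2Node4
import Cfsg.Agent.Helper98.HeMult.C2Chk5
import Cfsg.Agent.Helper98.HeMult.C2Node5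
import Cfsg.Agent.Helper98.HeMult.C2Chk6
import Cfsg.Agent.Helper98.HeMult.C2Node6
import Cfsg.Agent.Helper98.HeMult.C2Chk7
import Cfsg.Agent.Helper98.HeMult.C2Node7
import Cfsg.Agent.Helper98.HeMult.C2Chk8
import Cfsg.Agent.Helper98.HeMult.C2Node8
import Cfsg.Agent.Helper98.HeMult.C2Chk9
import Cfsg.Agent.Helper98.HeMult.C2Node9
import Cfsg.Agent.Helper98.HeMult.C2Chk10
import Cfsg.Agent.Helper98.HeMult.C2Node10
import Cfsg.Agent.Helper98.HeMult.C2Chk11
import Cfsg.Agent.Helper98.HeMult.C2Node11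
import Cfsg.Agent.Helper98.HeMult.C2Chk12
import Cfsg.Agent.Helper98.HeMult.C2Node12
import Cfsg.Agent.Helper98.HeMult.C2Chk13
import Cfsg.Agent.Helper98.HeMult.C2Node13
import Cfsg.Agent.Helper98.HeMult.C2Chk14
import Cfsg.Agent.Helper98.HeMult.C2Node14
import Cfsg.Agent.Helper98.HeMult.C2Chk15
import Cfsg.Agent.Helper98.HeMult.C2Node15
import Cfsg.Agent.Helper98.HeMult.C2Chk16
import Cfsg.Agent.Helper98.HeMult.C2Node16
import Cfsg.Agent.Helper98.HeMult.C2Chk17
import Cfsg.Agent.Helper98.HeMult.C2Node17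
import Cfsg.Agent.Helper98.HeMult.C2Chk18
import Cfsg.Agent.Helper98.HeMult.C2Node18
import Cfsg.Agent.Helper98.HeMult.C2Chk19
import Cfsg.Agent.Helper98.HeMult.C2Node19
import Cfsg.Agent.Helper98.HeMult.C2Chk20
import Cfsg.Agent.Helper98.HeMult.C2Node20
import Cfsg.Agent.Helper98.HeMult.C2Chk21
import Cfsg.Agent.Helper98.HeMult.C2Node21
import Cfsg.Agent.Helper98.HeMult.C2Chk22
import Cfsg.Agent.Helper98.HeMult.C2Node22
import Cfsg.Agent.Helper98.HeMult.C2Chk23
import Cfsg.Agent.Helper98.HeMult.C2Node23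

/-! Generated: the kernel of a finite stem extension of the Held group of exponent 2 is trivial. the centraliser 2^{1+6}:L3(2) of the involution d, on two generators -/

set_option autoImplicit false
set_option maxRecDepth 10000000
set_option maxHeartbeats 0

namespace Cfsg.Agent.Helper98.HeM

open Cfsg.Agent.Helper7.ModTC

theorem c2_chk : ∀ c l, c < c2P.cert.N → l < c2P.cert.nl → c2P.cert.chkEdge c l = true := by
  intro c l hc hl
  have hc' : c < 21504 := hc
  rcases Nat.lt_or_ge c 896 with h0 | h0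
  · exact Cert.chkRange_spec _ c2_chk0 (by omega) (by omega) hl
  rcases Nat.lt_or_ge c 1792 with h1 | h1
  · exact Cert.chkRange_spec _ c2_chk1 (by omega) (by omega) hl
  rcases Nat.lt_or_ge c 2688 with h2 | h2
  · exact Cert.chkRange_spec _ c2_chk2 (by omega) (by omega) hl
  rcases Nat.lt_or_ge c 3584 with h3 | h3
  · exact Cert.chkRange_spec _ c2_chk3 (by omega) (by omega) hl
  rcases Nat.lt_or_ge c 4480 with h4 | h4
  · exact Cert.chkRange_spec _ c2_chk4 (by omega) (by omega) hl
  rcases Nat.lt_or_ge c 5376 with h5 | h5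
  · exact Cert.chkRange_spec _ c2_chk5 (by omega) (by omega) hl
  rcases Nat.lt_or_ge c 6272 with h6 | h6
  · exact Cert.chkRange_spec _ c2_chk6 (by omega) (by omega) hl
  rcases Nat.lt_or_ge c 7168 with h7 | h7
  · exact Cert.chkRange_spec _ c2_chk7 (by omega) (by omega) hl
  rcases Nat.lt_or_ge c 8064 with h8 | h8
  · exact Cert.chkRange_spec _ c2_chk8 (by omega) (by omega) hl
  rcases Nat.lt_or_ge c 8960 with h9 | h9
  · exact Cert.chkRange_spec _ c2_chk9 (by omega) (by omega) hl
  rcases Nat.lt_or_ge c 9856 with h10 | h10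
  · exact Cert.chkRange_spec _ c2_chk10 (by omega) (by omega) hl
  rcases Nat.lt_or_ge c 10752 with h11 | h11
  · exact Cert.chkRange_spec _ c2_chk11 (by omega) (by omega) hl
  rcases Nat.lt_or_ge c 11648 with h12 | h12
  · exact Cert.chkRange_spec _ c2_chk12 (by omega) (by omega) hl
  rcases Nat.lt_or_ge c 12544 with h13 | h13
  · exact Cert.chkRange_spec _ c2_chk13 (by omega) (by omega) hl
  rcases Nat.lt_or_ge c 13440 with h14 | h14
  · exact Cert.chkRange_spec _ c2_chk14 (by omega) (by omega) hl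
  rcases Nat.lt_or_ge c 14336 with h15 | h15
  · exact Cert.chkRange_spec _ c2_chk15 (by omega) (by omega) hl
  rcases Nat.lt_or_ge c 15232 with h16 | h16
  · exact Cert.chkRange_spec _ c2_chk16 (by omega) (by omega) hl
  rcases Nat.lt_or_ge c 16128 with h17 | h17
  · exact Cert.chkRange_spec _ c2_chk17 (by omega) (by omega) hl
  rcases Nat.lt_or_ge c 17024 with h18 | h18
  · exact Cert.chkRange_spec _ c2_chk18 (by omega) (by omega) hl
  rcases Nat.lt_or_ge c 17920 with h19 | h19
  · exact Cert.chkRange_spec _ c2_chk19 (by omega) (by omega) hl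
  rcases Nat.lt_or_ge c 18816 with h20 | h20
  · exact Cert.chkRange_spec _ c2_chk20 (by omega) (by omega) hl
  rcases Nat.lt_or_ge c 19712 with h21 | h21
  · exact Cert.chkRange_spec _ c2_chk21 (by omega) (by omega) hl
  rcases Nat.lt_or_ge c 20608 with h22 | h22
  · exact Cert.chkRange_spec _ c2_chk22 (by omega) (by omega) hl
  exact Cert.chkRange_spec _ c2_chk23 (by omega) (by omega) hl

theorem c2_node : ∀ c < c2P.cert.N, nodeChk c2Li c2P.cert c2T c = true := by
  intro c hc
  have hc' : c < 21504 := hc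
  rcases Nat.lt_or_ge c 896 with h0 | h0
  · exact nodeRange_spec c2_node0 (by omega) (by omega)
  rcases Nat.lt_or_ge c 1792 with h1 | h1
  · exact nodeRange_spec c2_node1 (by omega) (by omega)
  rcases Nat.lt_or_ge c 2688 with h2 | h2
  · exact nodeRange_spec c2_node2 (by omega) (by omega)
  rcases Nat.lt_or_ge c 3584 with h3 | h3
  · exact nodeRange_spec c2_node3 (by omega) (by omega)
  rcases Nat.lt_or_ge c 4480 with h4 | h4
  · exact nodeRange_spec c2_node4 (by omega) (by omega)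
  rcases Nat.lt_or_ge c 5376 with h5 | h5
  · exact nodeRange_spec c2_node5 (by omega) (by omega)
  rcases Nat.lt_or_ge c 6272 with h6 | h6
  · exact nodeRange_spec c2_node6 (by omega) (by omega)
  rcases Nat.lt_or_ge c 7168 with h7 | h7
  · exact nodeRange_spec c2_node7 (by omega) (by omega)
  rcases Nat.lt_or_ge c 8064 with h8 | h8
  · exact nodeRange_spec c2_node8 (by omega) (by omega)
  rcases Nat.lt_or_ge c 8960 with h9 | h9
  · exact nodeRange_spec c2_node9 (by omega) (by omega)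
  rcases Nat.lt_or_ge c 9856 with h10 | h10
  · exact nodeRange_spec c2_node10 (by omega) (by omega)
  rcases Nat.lt_or_ge c 10752 with h11 | h11
  · exact nodeRange_spec c2_node11 (by omega) (by omega)
  rcases Nat.lt_or_ge c 11648 with h12 | h12
  · exact nodeRange_spec c2_node12 (by omega) (by omega)
  rcases Nat.lt_or_ge c 12544 with h13 | h13
  · exact nodeRange_spec c2_node13 (by omega) (by omega)
  rcases Nat.lt_or_ge c 13440 with h14 | h14
  · exact nodeRange_spec c2_node14 (by omega) (by omega)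
  rcases Nat.lt_or_ge c 14336 with h15 | h15
  · exact nodeRange_spec c2_node15 (by omega) (by omega)
  rcases Nat.lt_or_ge c 15232 with h16 | h16
  · exact nodeRange_spec c2_node16 (by omega) (by omega)
  rcases Nat.lt_or_ge c 16128 with h17 | h17
  · exact nodeRange_spec c2_node17 (by omega) (by omega)
  rcases Nat.lt_or_ge c 17024 with h18 | h18
  · exact nodeRange_spec c2_node18 (by omega) (by omega)
  rcases Nat.lt_or_ge c 17920 with h19 | h19
  · exact nodeRange_spec c2_node19 (by omega) (by omega)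
  rcases Nat.lt_or_ge c 18816 with h20 | h20
  · exact nodeRange_spec c2_node20 (by omega) (by omega)
  rcases Nat.lt_or_ge c 19712 with h21 | h21
  · exact nodeRange_spec c2_node21 (by omega) (by omega)
  rcases Nat.lt_or_ge c 20608 with h22 | h22
  · exact nodeRange_spec c2_node22 (by omega) (by omega)
  exact nodeRange_spec c2_node23 (by omega) (by omega)

theorem c2_sorted : sortedK c2T 21504 15 c2Sig = true := by decide +kernel

theorem c2_li : liOK c2Li = true := by decide +kernel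

theorem c2_rel : relChk c2Li 0 9 2 c2P.relsL c2P.zwsL = true := by decide +kernel

/-- the relation vectors -/
def c2Rho : List (List ℤ) := relList c2P.cert 86017 c2Pairs ++ [vadd c2FusVA0 (vneg c2FusVB0)] ++ [vadd c2FusVA1 (vneg c2FusVB1)] ++ [vadd c2FusVA2 (vneg c2FusVB2)] ++ expVecs 2 9

theorem c2_lin : linChk 0 9 c2U c2Rho = true := by decide +kernel

theorem c2_fus0 : fixB (invHW c2FusH0 ++ expand c2Li c2FusA0 ++ c2FusH0 ++ invHW (expand c2Li c2FusB0)) = true := by decide +kernel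

theorem c2_walkA0 : c2P.cert.walk 86017 0 (c2FusA0 ++ c2FusA0) = some (0, c2FusVA0) := by decide +kernel

theorem c2_walkB0 : c2P.cert.walk 86017 0 (c2FusB0 ++ c2FusB0) = some (0, c2FusVB0) := by decide +kernel

theorem c2_fus1 : fixB (invHW c2FusH1 ++ expand c2Li c2FusA1 ++ c2FusH1 ++ invHW (expand c2Li c2FusB1)) = true := by decide +kernel

theorem c2_walkA1 : c2P.cert.walk 86017 0 (c2FusA1 ++ c2FusA1) = some (0, c2FusVA1) := by decide +kernel

theorem c2_walkB1 : c2P.cert.walk 86017 0 (c2FusB1 ++ c2FusB1) = some (0, c2FusVB1) := by decide +kernel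

theorem c2_fus2 : fixB (invHW c2FusH2 ++ expand c2Li c2FusA2 ++ c2FusH2 ++ invHW (expand c2Li c2FusB2)) = true := by decide +kernel

theorem c2_walkA2 : c2P.cert.walk 86017 0 (c2FusA2 ++ c2FusA2) = some (0, c2FusVA2) := by decide +kernel

theorem c2_walkB2 : c2P.cert.walk 86017 0 (c2FusB2 ++ c2FusB2) = some (0, c2FusVB2) := by decide +kernel

theorem c2_part {Γ : Type} [Group Γ] [Finite Γ] (σ : Γ →* HeG) (hσ : Cfsg.IsStemExtension σ)
    (hexp : ∀ g ∈ σ.ker, g ^ 2 = 1) : σ.ker = ⊥ := by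
  obtain ⟨hcard, X, z, hσX, hzker, hzm, hrel, hwalk, hpow⟩ :=
    he_glue σ hσ c2P.cert 0 2 9 c2P.relsL c2P.zwsL c2Li c2T 15 c2Sig rfl rfl rfl rfl (by norm_num)
      c2_li c2_rel c2_node c2_sorted (by decide +kernel) (by decide) c2_chk
  have hz : ∀ j, z j ∈ Subgroup.center Γ := fun j => hσ.2.1 (hzker j)
  have hf0 : zpv z 0 (vadd c2FusVA0 (vneg c2FusVB0)) = 1 := by
    have e := fusion_sq σ hσ hexp X (xOf c2Li) hσX c2FusA0 c2FusB0 (el c2FusH0)
      (conj_of_fix c2_li _ _ _ c2_fus0)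
      (by rw [← ev_append, hwalk _ _ _ c2_walkA0]; exact zpv_mem z σ.ker hzker 0 _)
    rw [← ev_append, ← ev_append, hwalk _ _ _ c2_walkA0, hwalk _ _ _ c2_walkB0] at e
    rw [zpv_vadd hz, zpv_vneg hz, e, mul_inv_cancel]
  have hf1 : zpv z 0 (vadd c2FusVA1 (vneg c2FusVB1)) = 1 := by
    have e := fusion_sq σ hσ hexp X (xOf c2Li) hσX c2FusA1 c2FusB1 (el c2FusH1)
      (conj_of_fix c2_li _ _ _ c2_fus1)
      (by rw [← ev_append, hwalk _ _ _ c2_walkA1]; exact zpv_mem z σ.ker hzker 0 _)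
    rw [← ev_append, ← ev_append, hwalk _ _ _ c2_walkA1, hwalk _ _ _ c2_walkB1] at e
    rw [zpv_vadd hz, zpv_vneg hz, e, mul_inv_cancel]
  have hf2 : zpv z 0 (vadd c2FusVA2 (vneg c2FusVB2)) = 1 := by
    have e := fusion_sq σ hσ hexp X (xOf c2Li) hσX c2FusA2 c2FusB2 (el c2FusH2)
      (conj_of_fix c2_li _ _ _ c2_fus2)
      (by rw [← ev_append, hwalk _ _ _ c2_walkA2]; exact zpv_mem z σ.ker hzker 0 _)
    rw [← ev_append, ← ev_append, hwalk _ _ _ c2_walkA2, hwalk _ _ _ c2_walkB2] at e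
    rw [zpv_vadd hz, zpv_vneg hz, e, mul_inv_cancel]
  have hρ : ∀ ρ ∈ c2Rho, zpv z 0 ρ = 1 := by
    intro ρ hρ
    unfold c2Rho at hρ
    simp only [List.mem_append, List.mem_singleton] at hρ
    rcases hρ with (((h | h) | h) | h) | h
    · exact relList_spec hrel ρ h
    · rw [h]; exact hf0
    · rw [h]; exact hf1
    · rw [h]; exact hf2
    · exact zpv_expVecs hz 2 9 (fun j => hexp _ (hzker j)) ρ h
  exact finish σ 2 hexp _ 21504 hcard (by norm_num) z hz 0 9 (by norm_num) hzm c2P.relsL (by decide) (by decide +kernel) c2Rho hρ c2U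
    (linChk_spec c2_lin) hpow

end Cfsg.Agent.Helper98.HeM
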