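import Cfsg.Agent.Helper98.HeMult.H3Chk0
import Cfsg.Agent.Helper98.HeMult.H3Node0

/-! Generated: the kernel of a finite stem extension of the Held group of exponent 3 is trivial. a subgroup 3^{1+2}:2 -/

set_option autoImplicit false
set_option maxRecDepth 10000000
set_option maxHeartbeats 0

namespace Cfsg.Agent.Helper98.HeM

open Cfsg.Agent.Helper7.ModTC

theorem h3_chk : ∀ c l, c < h3P.cert.N → l < h3P.cert.nl → h3P.cert.chkEdge c l = true := by
  intro c l hc hl
  have hc' : c < 54 := hc
  exact Cert.chkRange_spec _ h3_chk0 (by omega) (by omega) hl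

theorem h3_node : ∀ c < h3P.cert.N, nodeChk h3Li h3P.cert h3T c = true := by
  intro c hc
  have hc' : c < 54 := hc
  exact nodeRange_spec h3_node0 (by omega) (by omega)

theorem h3_sorted : sortedK h3T 54 6 h3Sig = true := by decide +kernel

theorem h3_li : liOK h3Li = true := by decide +kernel

theorem h3_rel : relChk h3Li 1 7 3 h3P.relsL h3P.zwsL = true := by decide +kernel

/-- the relation vectors -/
def h3Rho : List (List ℤ) := relList h3P.cert 325 h3Pairs ++ expVecs 3 7

theorem h3_lin : linChk 1 7 h3U h3Rho = true := by decide +kernel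

theorem h3_part {Γ : Type} [Group Γ] [Finite Γ] (σ : Γ →* HeG) (hσ : Cfsg.IsStemExtension σ)
    (hexp : ∀ g ∈ σ.ker, g ^ 3 = 1) : σ.ker = ⊥ := by
  obtain ⟨hcard, X, z, hσX, hzker, hzm, hrel, hwalk, hpow⟩ :=
    he_glue σ hσ h3P.cert 1 3 7 h3P.relsL h3P.zwsL h3Li h3T 6 h3Sig rfl rfl rfl rfl (by norm_num)
      h3_li h3_rel h3_node h3_sorted (by decide +kernel) (by decide) h3_chk
  have hz : ∀ j, z j ∈ Subgroup.center Γ := fun j => hσ.2.1 (hzker j)
  have hρ : ∀ ρ ∈ h3Rho, zpv z 0 ρ = 1 := by
    intro ρ hρ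
    unfold h3Rho at hρ
    simp only [List.mem_append, List.mem_singleton] at hρ
    rcases hρ with h | h
    · exact relList_spec hrel ρ h
    · exact zpv_expVecs hz 3 7 (fun j => hexp _ (hzker j)) ρ h
  exact finish σ 3 hexp _ 54 hcard (by norm_num) z hz 1 7 (by norm_num) hzm h3P.relsL (by decide) (by decide +kernel) h3Rho hρ h3U
    (linChk_spec h3_lin) hpow

end Cfsg.Agent.Helper98.HeM
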