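import Cfsg.Agent.Helper98.HeMult.H5Chk0
import Cfsg.Agent.Helper98.HeMult.H5Node0

/-! Generated: the kernel of a finite stem extension of the Held group of exponent 5 is trivial. a subgroup D10 x D10 -/

set_option autoImplicit false
set_option maxRecDepth 10000000
set_option maxHeartbeats 0

namespace Cfsg.Agent.Helper98.HeM

open Cfsg.Agent.Helper7.ModTC

theorem h5_chk : ∀ c l, c < h5P.cert.N → l < h5P.cert.nl → h5P.cert.chkEdge c l = true := by
  intro c l hc hl
  have hc' : c < 100 := hc
  exact Cert.chkRange_spec _ h5_chk0 (by omega) (by omega) hl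

theorem h5_node : ∀ c < h5P.cert.N, nodeChk h5Li h5P.cert h5T c = true := by
  intro c hc
  have hc' : c < 100 := hc
  exact nodeRange_spec h5_node0 (by omega) (by omega)

theorem h5_sorted : sortedK h5T 100 7 h5Sig = true := by decide +kernel

theorem h5_li : liOK h5Li = true := by decide +kernel

theorem h5_rel : relChk h5Li 2 10 4 h5P.relsL h5P.zwsL = true := by decide +kernel

/-- the relation vectors -/
def h5Rho : List (List ℤ) := relList h5P.cert 801 h5Pairs ++ expVecs 5 10

theorem h5_lin : linChk 2 10 h5U h5Rho = true := by decide +kernel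

theorem h5_part {Γ : Type} [Group Γ] [Finite Γ] (σ : Γ →* HeG) (hσ : Cfsg.IsStemExtension σ)
    (hexp : ∀ g ∈ σ.ker, g ^ 5 = 1) : σ.ker = ⊥ := by
  obtain ⟨hcard, X, z, hσX, hzker, hzm, hrel, hwalk, hpow⟩ :=
    he_glue σ hσ h5P.cert 2 4 10 h5P.relsL h5P.zwsL h5Li h5T 7 h5Sig rfl rfl rfl rfl (by norm_num)
      h5_li h5_rel h5_node h5_sorted (by decide +kernel) (by decide) h5_chk
  have hz : ∀ j, z j ∈ Subgroup.center Γ := fun j => hσ.2.1 (hzker j)
  have hρ : ∀ ρ ∈ h5Rho, zpv z 0 ρ = 1 := by
    intro ρ hρ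
    unfold h5Rho at hρ
    simp only [List.mem_append, List.mem_singleton] at hρ
    rcases hρ with h | h
    · exact relList_spec hrel ρ h
    · exact zpv_expVecs hz 5 10 (fun j => hexp _ (hzker j)) ρ h
  exact finish σ 5 hexp _ 100 hcard (by norm_num) z hz 2 10 (by norm_num) hzm h5P.relsL (by decide) (by decide +kernel) h5Rho hρ h5U
    (linChk_spec h5_lin) hpow

end Cfsg.Agent.Helper98.HeM
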