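import Cfsg.Agent.Helper98.HeMult.H7Chk0
import Cfsg.Agent.Helper98.HeMult.H7Node0

/-! Generated: the kernel of a finite stem extension of the Held group of exponent 7 is trivial. the centraliser 7^{1+2}:3 of an element of order 7 -/

set_option autoImplicit false
set_option maxRecDepth 10000000
set_option maxHeartbeats 0

namespace Cfsg.Agent.Helper98.HeM

open Cfsg.Agent.Helper7.ModTC

theorem h7_chk : ∀ c l, c < h7P.cert.N → l < h7P.cert.nl → h7P.cert.chkEdge c l = true := by
  intro c l hc hl
  have hc' : c < 1029 := hc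
  exact Cert.chkRange_spec _ h7_chk0 (by omega) (by omega) hl

theorem h7_node : ∀ c < h7P.cert.N, nodeChk h7Li h7P.cert h7T c = true := by
  intro c hc
  have hc' : c < 1029 := hc
  exact nodeRange_spec h7_node0 (by omega) (by omega)

theorem h7_sorted : sortedK h7T 1029 11 h7Sig = true := by decide +kernel

theorem h7_li : liOK h7Li = true := by decide +kernel

theorem h7_rel : relChk h7Li 1 4 2 h7P.relsL h7P.zwsL = true := by decide +kernel

/-- the relation vectors -/
def h7Rho : List (List ℤ) := relList h7P.cert 4117 h7Pairs ++ expVecs 7 4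

theorem h7_lin : linChk 1 4 h7U h7Rho = true := by decide +kernel

theorem h7_part {Γ : Type} [Group Γ] [Finite Γ] (σ : Γ →* HeG) (hσ : Cfsg.IsStemExtension σ)
    (hexp : ∀ g ∈ σ.ker, g ^ 7 = 1) : σ.ker = ⊥ := by
  obtain ⟨hcard, X, z, hσX, hzker, hzm, hrel, hwalk, hpow⟩ :=
    he_glue σ hσ h7P.cert 1 2 4 h7P.relsL h7P.zwsL h7Li h7T 11 h7Sig rfl rfl rfl rfl (by norm_num)
      h7_li h7_rel h7_node h7_sorted (by decide +kernel) (by decide) h7_chk
  have hz : ∀ j, z j ∈ Subgroup.center Γ := fun j => hσ.2.1 (hzker j)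
  have hρ : ∀ ρ ∈ h7Rho, zpv z 0 ρ = 1 := by
    intro ρ hρ
    unfold h7Rho at hρ
    simp only [List.mem_append, List.mem_singleton] at hρ
    rcases hρ with h | h
    · exact relList_spec hrel ρ h
    · exact zpv_expVecs hz 7 4 (fun j => hexp _ (hzker j)) ρ h
  exact finish σ 7 hexp _ 1029 hcard (by norm_num) z hz 1 4 (by norm_num) hzm h7P.relsL (by decide) (by decide +kernel) h7Rho hρ h7U
    (linChk_spec h7_lin) hpow

end Cfsg.Agent.Helper98.HeM
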