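import Cfsg.Agent.Helper98.HeMult.Reduce
import Cfsg.Agent.Helper98.HeMult.C2Main
import Cfsg.Agent.Helper98.HeMult.H3Main
import Cfsg.Agent.Helper98.HeMult.H5Main
import Cfsg.Agent.Helper98.HeMult.H7Main
import Cfsg.Agent.Helper66.SchurBasic

/-!
# The Schur multiplier of the Held group is trivial

The kernel of a finite stem extension of exponent `p` is trivial: for `p = 2, 3, 5, 7` by the
labelled coset tables of subgroups containing a Sylow `p`-subgroup, for `p = 17` by a cyclic
subgroup of order `17`, for the other primes as `p` does not divide the order of the group.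
-/

set_option autoImplicit false

namespace Cfsg.Agent.Helper98.HeM

open Cfsg.Agent.Helper7.ModTC

instance finite_HeG : Finite HeG := by
  apply Nat.finite_of_card_ne_zero
  rw [Cfsg.Agent.Helper28.HeC.card_inj.1]
  norm_num

/-- the word of an element of order seventeen -/
def w17 : List ℕ := [2, 6, 4, 12]

/-- its seventeenth power -/
def w17p : List ℕ := (List.replicate 17 w17).flatten

theorem el_pow (w : List ℕ) (n : ℕ) : el (List.replicate n w).flatten = el w ^ n := by
  induction n with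
  | zero => simpa using el_nil
  | succ n ih => rw [List.replicate_succ, List.flatten_cons, el_append, ih, pow_succ']

theorem w17_fix : fixB w17p = true := by decide +kernel

theorem w17_move : Nat.beq (trc w17 0) 0 = false := by decide +kernel

theorem orderOf_el_w17 : orderOf (el w17) = 17 := by
  have : Fact (Nat.Prime 17) := ⟨by norm_num⟩
  apply orderOf_eq_prime
  · have h := el_eq_one w17_fix
    unfold w17p at h
    rwa [el_pow] at h
  · intro h
    have h1 : el w17 = el [] := by rw [h, el_nil]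
    have h2 := trc_eq_of_el_eq (u := w17) (w := []) (by decide) (by decide) h1 0 (by norm_num)
    have h3 : trc [] 0 = 0 := rfl
    rw [h3] at h2
    have h4 := w17_move
    rw [h2] at h4
    exact Bool.noConfusion h4

section

variable {Γ : Type} [Group Γ] [Finite Γ] (σ : Γ →* HeG) (hσ : Cfsg.IsStemExtension σ)

include hσ

theorem p17_part (hexp : ∀ g ∈ σ.ker, g ^ 17 = 1) : σ.ker = ⊥ := by
  have hidx : (Subgroup.zpowers (el w17)).index = 237081600 := by
    have h1 := Subgroup.card_mul_index (Subgroup.zpowers (el w17))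
    rw [Nat.card_zpowers, orderOf_el_w17, Cfsg.Agent.Helper28.HeC.card_inj.1] at h1
    omega
  rw [eq_bot_iff]
  intro g hg
  rw [Subgroup.mem_bot]
  have h1 := Cfsg.Agent.Helper96.StemBound.ker_pow_index_zpowers σ hσ (el w17) hg
  rw [hidx] at h1
  have h2 : orderOf g ∣ 237081600 := orderOf_dvd_of_pow_eq_one h1
  have h3 : orderOf g ∣ 17 := orderOf_dvd_of_pow_eq_one (hexp g hg)
  have h4 : orderOf g ∣ Nat.gcd 237081600 17 := Nat.dvd_gcd h2 h3
  have h5 : Nat.gcd 237081600 17 = 1 := by norm_num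
  rw [h5, Nat.dvd_one] at h4
  exact orderOf_eq_one_iff.1 h4

theorem other_part (p : ℕ) (hp : p.Prime) (h2 : p ≠ 2) (h3 : p ≠ 3) (h5 : p ≠ 5) (h7 : p ≠ 7)
    (h17 : p ≠ 17) (hexp : ∀ g ∈ σ.ker, g ^ p = 1) : σ.ker = ⊥ := by
  have hidx : (Subgroup.zpowers (1 : HeG)).index = 4030387200 := by
    have h1 := Subgroup.card_mul_index (Subgroup.zpowers (1 : HeG))
    rw [Nat.card_zpowers, orderOf_one, one_mul, Cfsg.Agent.Helper28.HeC.card_inj.1] at h1
    exact h1
  have hcop : Nat.Coprime 4030387200 p := by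
    rw [Nat.coprime_comm, Nat.Prime.coprime_iff_not_dvd hp]
    intro hd
    have e : (4030387200 : ℕ) = 2 ^ 10 * 3 ^ 3 * 5 ^ 2 * 7 ^ 3 * 17 := by norm_num
    rw [e] at hd
    rcases (Nat.Prime.dvd_mul hp).1 hd with hd | hd
    · rcases (Nat.Prime.dvd_mul hp).1 hd with hd | hd
      · rcases (Nat.Prime.dvd_mul hp).1 hd with hd | hd
        · rcases (Nat.Prime.dvd_mul hp).1 hd with hd | hd
          · exact h2 ((Nat.prime_dvd_prime_iff_eq hp Nat.prime_two).1 (hp.dvd_of_dvd_pow hd))
          · exact h3 ((Nat.prime_dvd_prime_iff_eq hp Nat.prime_three).1 (hp.dvd_of_dvd_pow hd))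
        · exact h5 ((Nat.prime_dvd_prime_iff_eq hp Nat.prime_five).1 (hp.dvd_of_dvd_pow hd))
      · exact h7 ((Nat.prime_dvd_prime_iff_eq hp (by norm_num)).1 (hp.dvd_of_dvd_pow hd))
    · exact h17 ((Nat.prime_dvd_prime_iff_eq hp (by norm_num)).1 hd)
  rw [eq_bot_iff]
  intro g hg
  rw [Subgroup.mem_bot]
  have h1 := Cfsg.Agent.Helper96.StemBound.ker_pow_index_zpowers σ hσ (1 : HeG) hg
  rw [hidx] at h1
  have h2' : orderOf g ∣ 4030387200 := orderOf_dvd_of_pow_eq_one h1
  have h3' : orderOf g ∣ p := orderOf_dvd_of_pow_eq_one (hexp g hg)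
  have h4 : orderOf g ∣ Nat.gcd 4030387200 p := Nat.dvd_gcd h2' h3'
  rw [hcop.gcd_eq_one, Nat.dvd_one] at h4
  exact orderOf_eq_one_iff.1 h4

end

/-- the kernel of every finite stem extension of the Held group is trivial -/
theorem ker_eq_bot_HeG (Γ : Type) [Group Γ] [Finite Γ] (σ : Γ →* HeG)
    (hσ : Cfsg.IsStemExtension σ) : σ.ker = ⊥ := by
  refine ker_eq_bot_of_exponent (G := HeG) ?_ σ hσ
  intro p hp Δ _ _ τ hτ hexp
  by_cases h2 : p = 2
  · subst h2; exact c2_part τ hτ hexp
  by_cases h3 : p = 3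
  · subst h3; exact h3_part τ hτ hexp
  by_cases h5 : p = 5
  · subst h5; exact h5_part τ hτ hexp
  by_cases h7 : p = 7
  · subst h7; exact h7_part τ hτ hexp
  by_cases h17 : p = 17
  · subst h17; exact p17_part τ hτ hexp
  exact other_part τ hτ p hp h2 h3 h5 h7 h17 hexp

/-- the Schur multiplier of the Held group is trivial -/
theorem mult_HeG : Cfsg.HasCyclicSchurMultiplier HeG 1 :=
  Cfsg.Agent.Helper66.hasCyclicSchurMultiplier_one_of_forall ker_eq_bot_HeG

end Cfsg.Agent.Helper98.HeM
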