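import Cfsg.Agent.Helper98.HeMult.Glue

/-!
# Packed certificates, and the end of the argument for one prime
-/

set_option autoImplicit false
set_option linter.unusedSectionVars false

namespace Cfsg.Agent.Helper98.HeM

open Cfsg.Agent.Helper7.ModTC

/-- packed data of a labelled coset table: the nodes are split into chunks of `cs` nodes -/
structure Pk where
  /-- number of nodes -/
  N : ℕ
  /-- number of generators -/
  k : ℕ
  /-- number of relators -/
  m : ℕ
  /-- nodes per chunk -/
  cs : ℕ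
  /-- width of a node -/
  wN : ℕ
  /-- width of a rank -/
  wR : ℕ
  /-- width of a word -/
  wT : ℕ
  /-- width of a coordinate of a label -/
  wL : ℕ
  /-- the table -/
  tabL : List (List ℕ)
  /-- the ranks -/
  rkL : List (List ℕ)
  /-- the justifications -/
  jtL : List (List ℕ)
  /-- the labels -/
  labL : List (List ℕ)
  /-- the words of the nodes -/
  twL : List (List ℕ)
  /-- the relators -/
  relsL : List (List ℕ)
  /-- the words with zero exponent sums -/
  zwsL : List (List ℕ)

namespace Pk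

variable (P : Pk)

/-- field of an edge -/
def ed (L : List (List ℕ)) (w c l : ℕ) : ℕ :=
  fd (chunk L (c / P.cs)) w ((c % P.cs) * (2 * P.k) + l)

/-- decode a word -/
def decW (n : ℕ) : List ℕ := (List.range (n % 32)).map fun i => (n >>> (5 + 3 * i)) % 8

/-- decode a label -/
def decV (n : ℕ) : List ℤ :=
  (List.range P.m).map fun j => (((n >>> (P.wL * j)) % 2 ^ P.wL : ℕ) : ℤ) - (2 ^ (P.wL - 1) : ℕ)

/-- the certificate -/
def cert : Cert where
  N := P.N
  nl := 2 * P.k
  tab := fun c l => P.ed P.tabL P.wN c l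
  tw := fun c => decW (fd (chunk P.twL (c / P.cs)) P.wT (c % P.cs))
  lab := fun c l => P.decV (P.ed P.labL (P.wL * P.m) c l)
  rk := fun c l => P.ed P.rkL P.wR c l
  kind := fun c l => P.ed P.jtL (14 + P.wN) c l % 4
  jb := fun c l => P.ed P.jtL (14 + P.wN) c l / 512 % 32
  jr := fun c l => P.ed P.jtL (14 + P.wN) c l / 8 % 64
  jf := fun c l => P.ed P.jtL (14 + P.wN) c l / 4 % 2 == 1
  js := fun c l => P.ed P.jtL (14 + P.wN) c l / 16384
  base := mkBase P.m P.k (fun b => P.relsL.getD b []) (fun i => P.zwsL.getD i [])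

end Pk

/-- the multiples of the unit vectors -/
def expVecs (p : ℤ) (m : ℕ) : List (List ℤ) := (List.range m).map fun j => vsmul p (padUnit m j)

/-- the exponent sums of the relators in the free generators: only the `i`-th relator involves
the free generator `i` -/
def esChk (a m : ℕ) (relsL : List (List ℕ)) : Bool :=
  (List.range a).all fun i => (List.range m).all fun j =>
    if j = i then (esum (relsL.getD j [])).getD i 0 != 0
    else (esum (relsL.getD j [])).getD i 0 == 0

theorem esChk_spec {a m : ℕ} {relsL : List (List ℕ)} (hl : relsL.length ≤ m)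
    (h : esChk a m relsL = true) (i : ℕ) (hi : i < a) (him : i < m) :
    (esum (relsL.getD i [])).getD i 0 ≠ 0 ∧
      ∀ j, j ≠ i → (esum (relsL.getD j [])).getD i 0 = 0 := by
  simp only [esChk, List.all_eq_true, List.mem_range] at h
  constructor
  · have := h i hi i him
    rw [if_pos rfl] at this
    simpa using this
  · intro j hj
    rcases Nat.lt_or_ge j m with hjm | hjm
    · have := h i hi j hjm
      rw [if_neg hj] at this
      simpa using this
    · have e : relsL.getD j [] = [] := List.getD_eq_default _ _ (by omega)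
      rw [e]
      rfl

/-- the unit vectors from `a` on are the stated combinations of the relation vectors -/
def linChk (a m : ℕ) (U ρs : List (List ℤ)) : Bool :=
  (List.range m).all fun j => decide (j < a) || (lincomb (U.getD j []) ρs == padUnit m j)

theorem linChk_spec {a m : ℕ} {U ρs : List (List ℤ)} (h : linChk a m U ρs = true) :
    ∀ j, a ≤ j → j < m → lincomb (U.getD j []) ρs = padUnit m j := by
  intro j haj hj
  simp only [linChk, List.all_eq_true, List.mem_range, Bool.or_eq_true, decide_eq_true_eq,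
    beq_iff_eq] at h
  rcases h j hj with h1 | h1
  · omega
  · exact h1

/-- conjugacy in the Held group from a word that fixes the base -/
theorem conj_of_fix {li : List (List ℕ)} (hli : liOK li = true) (hw u₁ u₂ : List ℕ)
    (h : fixB (invHW hw ++ expand li u₁ ++ hw ++ invHW (expand li u₂)) = true) :
    (el hw)⁻¹ * ev (xOf li) u₁ * el hw = ev (xOf li) u₂ := by
  have h1 := el_eq_one h
  rw [el_append, el_append, el_append, el_invHW, el_invHW, ← ev_xOf hli, ← ev_xOf hli] at h1
  exact mul_inv_eq_one.1 h1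

section Fin

variable {Γ : Type} [Group Γ]

theorem zpv_expVecs {z : ℕ → Γ} (hz : ∀ j, z j ∈ Subgroup.center Γ) (p : ℕ) (m : ℕ)
    (hexp : ∀ j, z j ^ p = 1) : ∀ ρ ∈ expVecs (p : ℤ) m, zpv z 0 ρ = 1 := by
  intro ρ hρ
  simp only [expVecs, List.mem_map, List.mem_range] at hρ
  obtain ⟨j, _, rfl⟩ := hρ
  rw [zpv_vsmul hz, zpv_padUnit, zpow_natCast, hexp]

/-- the end of the argument: the relation vectors generate enough, so the `index`-th powers of
the elements of the kernel vanish -/
theorem finish [Finite Γ] (σ : Γ →* HeG) (p : ℕ) (hexp : ∀ g ∈ σ.ker, g ^ p = 1)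
    (S : Subgroup HeG) (N : ℕ) (hN : Nat.card S = N) (hcop : Nat.Coprime (4030387200 / N) p)
    (z : ℕ → Γ) (hz : ∀ j, z j ∈ Subgroup.center Γ) (a m : ℕ) (ham : a ≤ m)
    (hzm : ∀ j, m ≤ j → z j = 1)
    (relsL : List (List ℕ)) (hl : relsL.length ≤ m) (hes : esChk a m relsL = true)
    (ρs : List (List ℤ)) (hρ : ∀ ρ ∈ ρs, zpv z 0 ρ = 1) (U : List (List ℤ))
    (hU : ∀ j, a ≤ j → j < m → lincomb (U.getD j []) ρs = padUnit m j)
    (hpow : ∀ g ∈ σ.ker, ∃ w : List ℤ, g ^ S.index = zpv z 0 w ∧
      ∀ i < a, trk (fun b => relsL.getD b []) i w = 0) : σ.ker = ⊥ := by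
  have hidx : S.index = 4030387200 / N := by
    have h1 := Subgroup.card_mul_index S
    rw [hN, Cfsg.Agent.Helper28.HeC.card_inj.1] at h1
    rw [← h1]
    rcases Nat.eq_zero_or_pos N with h0 | h0
    · rw [h0, zero_mul] at h1; omega
    · rw [Nat.mul_div_cancel_left _ h0]
  have hz1 : ∀ j, a ≤ j → z j = 1 := by
    intro j haj
    rcases Nat.lt_or_ge j m with hj | hj
    · rw [← zpv_padUnit z m j, ← hU j haj hj]
      exact zpv_lincomb hz ρs hρ _
    · exact hzm j hj
  rw [eq_bot_iff]
  intro g hg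
  rw [Subgroup.mem_bot]
  obtain ⟨w, hw, htr⟩ := hpow g hg
  have hw0 : ∀ i < a, w.getD i 0 = 0 := by
    intro i hi
    obtain ⟨h1, h2⟩ := esChk_spec hl hes i hi (by omega)
    have h3 := htr i hi
    unfold trk at h3
    rw [wsum_single _ i (fun j hj => h2 j hj) 0 w, if_pos (Nat.zero_le _), Nat.sub_zero] at h3
    rcases mul_eq_zero.1 h3 with h4 | h4
    · exact h4
    · exact absurd h4 h1
  have hone : zpv z 0 w = 1 := by
    have := zpv_mem_of (z := z) ⊥ 0 w (by
      intro i hi
      rw [zero_add, Subgroup.mem_bot]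
      apply hz1
      by_contra hcon
      exact hi (hw0 i (by omega)))
    rwa [Subgroup.mem_bot] at this
  rw [hone, hidx] at hw
  have h1 : orderOf g ∣ 4030387200 / N := orderOf_dvd_of_pow_eq_one hw
  have h2 : orderOf g ∣ p := orderOf_dvd_of_pow_eq_one (hexp g hg)
  have h3 : orderOf g ∣ Nat.gcd (4030387200 / N) p := Nat.dvd_gcd h1 h2
  rw [hcop.gcd_eq_one, Nat.dvd_one] at h3
  exact orderOf_eq_one_iff.1 h3

/-- conjugate involutions have lifts with the same square, if the kernel has exponent two -/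
theorem fusion_sq (σ : Γ →* HeG) (hσ : Cfsg.IsStemExtension σ) (hexp : ∀ g ∈ σ.ker, g ^ 2 = 1)
    (X : ℕ → Γ) (x : ℕ → HeG) (hσX : ∀ i, σ (X i) = x i) (u₁ u₂ : List ℕ) (g : HeG)
    (hconj : g⁻¹ * ev x u₁ * g = ev x u₂) (h1 : ev X u₁ * ev X u₁ ∈ σ.ker) :
    ev X u₁ * ev X u₁ = ev X u₂ * ev X u₂ := by
  obtain ⟨gt, rfl⟩ := hσ.1 g
  have hσX' : (fun i => σ (X i)) = x := funext hσX
  set A := gt⁻¹ * ev X u₁ * gt with hA
  set B := ev X u₂ with hB
  have hκ : A * B⁻¹ ∈ σ.ker := by
    rw [MonoidHom.mem_ker, map_mul, map_inv, hA, map_mul, map_mul, map_inv, hB, ev_map, ev_map,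
      hσX', hconj, mul_inv_cancel]
  have hκc := hσ.2.1 hκ
  have hκ2 := hexp _ hκ
  have hAB : A = (A * B⁻¹) * B := by group
  have hc1 := hσ.2.1 h1
  have hAA : A * A = ev X u₁ * ev X u₁ := by
    have : A * A = gt⁻¹ * (ev X u₁ * ev X u₁) * gt := by rw [hA]; group
    rw [this, Subgroup.mem_center_iff.1 hc1 gt⁻¹, mul_assoc, inv_mul_cancel, mul_one]
  have hcm : B * (A * B⁻¹) = (A * B⁻¹) * B := Subgroup.mem_center_iff.1 hκc B
  calc ev X u₁ * ev X u₁ = A * A := hAA.symm
    _ = ((A * B⁻¹) * B) * ((A * B⁻¹) * B) := by rw [← hAB]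
    _ = (A * B⁻¹) * (B * (A * B⁻¹)) * B := by group
    _ = (A * B⁻¹) * ((A * B⁻¹) * B) * B := by rw [hcm]
    _ = (A * B⁻¹) ^ 2 * (B * B) := by rw [pow_two]; group
    _ = B * B := by rw [hκ2, one_mul]

end Fin

end Cfsg.Agent.Helper98.HeM
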