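import Cfsg.Agent.Helper28.He462.Base
import Cfsg.Agent.Helper7.ModTC.LinGen
import Cfsg.Agent.Helper98.J3Grp

/-!
# Labelled coset tables over the presented Held group

Elements of the presented group are given by words in the fourteen letters of the permutation
tables of degree `2058`; a word that fixes the four base points is trivial, and equal elements have
equal traces.  The hypotheses of `ModTC.stem_gen` on the side of the group become Boolean checks.
-/

set_option autoImplicit false
set_option linter.unusedSectionVars false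

namespace Cfsg.Agent.Helper98.HeM

open Cfsg.Agent.Helper7.ModTC

universe u

/-- the presented Held group -/
abbrev HeG : Type := PresentedGroup Cfsg.Agent.Helper28.He1.R

/-- the element of a word in the letters -/
noncomputable def el (w : List ℕ) : HeG :=
  PresentedGroup.mk Cfsg.Agent.Helper28.He1.R
    (Cfsg.Agent.Helper28.ev Cfsg.Agent.Helper28.He1.gen 7 w)

theorem el_nil : el [] = 1 := by
  unfold el Cfsg.Agent.Helper28.ev
  rw [Cfsg.Agent.Helper28.wv_nil, map_one]

theorem el_append (u w : List ℕ) : el (u ++ w) = el u * el w := by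
  unfold el Cfsg.Agent.Helper28.ev
  rw [Cfsg.Agent.Helper28.wv_append, map_mul]

/-- the inverse word -/
noncomputable def invHW (w : List ℕ) : List ℕ := (w.map Cfsg.Agent.Helper28.flipL).reverse

theorem el_singleton_flipL (l : ℕ) : el [Cfsg.Agent.Helper28.flipL l] = (el [l])⁻¹ := by
  unfold el Cfsg.Agent.Helper28.ev
  rw [Cfsg.Agent.Helper28.wv_cons, Cfsg.Agent.Helper28.wv_nil, mul_one,
    Cfsg.Agent.Helper28.wv_cons, Cfsg.Agent.Helper28.wv_nil, mul_one,
    Cfsg.Agent.Helper28.lam_flipL, map_inv]

theorem el_invHW (w : List ℕ) : el (invHW w) = (el w)⁻¹ := by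
  induction w with
  | nil => simp [invHW, el_nil]
  | cons l w ih =>
    have h1 : invHW (l :: w) = invHW w ++ [Cfsg.Agent.Helper28.flipL l] := by simp [invHW]
    have h2 : l :: w = [l] ++ w := rfl
    rw [h1, el_append, ih, h2, el_append, mul_inv_rev, el_singleton_flipL]

/-! ### Boolean checks on words -/

/-- the image of a point under a word -/
noncomputable def trc (w : List ℕ) (i : ℕ) : ℕ :=
  Cfsg.Agent.Helper28.trace Cfsg.Agent.Helper28.He1.ptabs.perm w i

/-- all the letters are below fourteen -/
def letOK (w : List ℕ) : Bool := w.all fun l => decide (l < 14)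

theorem letOK_spec {w : List ℕ} (h : letOK w = true) :
    ∀ l ∈ w, l < Cfsg.Agent.Helper28.He1.ptabs.L := by
  intro l hl
  simp only [letOK, List.all_eq_true, decide_eq_true_eq] at h
  have h2 : Cfsg.Agent.Helper28.He1.ptabs.L = 2 * 7 := Cfsg.Agent.Helper28.He1.layout.hL
  rw [h2]
  exact h l hl

theorem letOK_append {u w : List ℕ} (hu : letOK u = true) (hw : letOK w = true) :
    letOK (u ++ w) = true := by
  simp only [letOK, List.all_append, Bool.and_eq_true] at *
  exact ⟨hu, hw⟩

/-- the word fixes the four base points -/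
noncomputable def fixB (w : List ℕ) : Bool :=
  letOK w && (Nat.beq (trc w 534) 534 && (Nat.beq (trc w 974) 974 &&
    (Nat.beq (trc w 1) 1 && Nat.beq (trc w 0) 0)))

theorem el_eq_one {w : List ℕ} (h : fixB w = true) : el w = 1 := by
  simp only [fixB, Bool.and_eq_true] at h
  obtain ⟨h0, h1, h2, h3, h4⟩ := h
  apply Cfsg.Agent.Helper28.He462.mk_eq_one_of_base w (letOK_spec h0)
  intro b hb
  simp only [List.mem_cons, List.not_mem_nil, or_false] at hb
  rcases hb with rfl | rfl | rfl | rfl
  · exact Nat.eq_of_beq_eq_true h1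
  · exact Nat.eq_of_beq_eq_true h2
  · exact Nat.eq_of_beq_eq_true h3
  · exact Nat.eq_of_beq_eq_true h4

theorem trc_eq_of_el_eq {u w : List ℕ} (hu : letOK u = true) (hw : letOK w = true)
    (e : el u = el w) (i : ℕ) (hi : i < 2058) : trc u i = trc w i := by
  have h1 := congrArg (Cfsg.Agent.Helper28.rhoG Cfsg.Agent.Helper28.He1.R
    Cfsg.Agent.Helper28.He1.idx 7 Cfsg.Agent.Helper28.He1.ptabs Cfsg.Agent.Helper28.He1.inv_ok
    Cfsg.Agent.Helper28.He1.layout.hL Cfsg.Agent.Helper28.HeC.hrels) e
  unfold el at h1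
  rw [Cfsg.Agent.Helper28.rhoG_mk, Cfsg.Agent.Helper28.rhoG_mk] at h1
  have h2 := Cfsg.Agent.Helper28.rhoF_ev_inv Cfsg.Agent.Helper28.He1.gen
    Cfsg.Agent.Helper28.He1.idx 7 Cfsg.Agent.Helper28.He1.ptabs Cfsg.Agent.Helper28.He1.inv_ok
    Cfsg.Agent.Helper28.He1.layout.hL Cfsg.Agent.Helper28.He1.layout.hig u (letOK_spec hu) ⟨i, hi⟩
  have h3 := Cfsg.Agent.Helper28.rhoF_ev_inv Cfsg.Agent.Helper28.He1.gen
    Cfsg.Agent.Helper28.He1.idx 7 Cfsg.Agent.Helper28.He1.ptabs Cfsg.Agent.Helper28.He1.inv_ok
    Cfsg.Agent.Helper28.He1.layout.hL Cfsg.Agent.Helper28.He1.layout.hig w (letOK_spec hw) ⟨i, hi⟩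
  rw [h1] at h2
  exact h2.symm.trans h3

/-- the key of a word: the images of the four base points -/
noncomputable def keyW (w : List ℕ) : ℕ :=
  Nat.add (trc w 534) (Nat.mul 4096 (Nat.add (trc w 974)
    (Nat.mul 4096 (Nat.add (trc w 1) (Nat.mul 4096 (trc w 0))))))

theorem keyW_eq_of_el_eq {u w : List ℕ} (hu : letOK u = true) (hw : letOK w = true)
    (e : el u = el w) : keyW u = keyW w := by
  unfold keyW
  rw [trc_eq_of_el_eq hu hw e 534 (by norm_num), trc_eq_of_el_eq hu hw e 974 (by norm_num),
    trc_eq_of_el_eq hu hw e 1 (by norm_num), trc_eq_of_el_eq hu hw e 0 (by norm_num)]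

/-! ### words in the generators of a subgroup -/

/-- expansion of a word in the letters of the subgroup -/
def expand (li : List (List ℕ)) : List ℕ → List ℕ
  | [] => []
  | l :: w => li.getD l [] ++ expand li w

theorem expand_append (li : List (List ℕ)) (u w : List ℕ) :
    expand li (u ++ w) = expand li u ++ expand li w := by
  induction u with
  | nil => rfl
  | cons l u ih => simp [expand, ih]

/-- the words of the letters are words of letters, and the odd ones are the inverse words of the
even ones -/
noncomputable def liOK (li : List (List ℕ)) : Bool :=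
  (li.all letOK) && (List.range (li.length / 2 + 1)).all fun i =>
    li.getD (2 * i + 1) [] == invHW (li.getD (2 * i) [])

theorem liOK_let {li : List (List ℕ)} (h : liOK li = true) (l : ℕ) :
    letOK (li.getD l []) = true := by
  simp only [liOK, Bool.and_eq_true, List.all_eq_true] at h
  rcases Nat.lt_or_ge l li.length with hl | hl
  · rw [List.getD_eq_getElem _ _ hl]
    exact h.1 _ (List.getElem_mem hl)
  · rw [List.getD_eq_default _ _ hl]
    rfl

theorem liOK_inv {li : List (List ℕ)} (h : liOK li = true) (i : ℕ) :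
    li.getD (2 * i + 1) [] = invHW (li.getD (2 * i) []) := by
  simp only [liOK, Bool.and_eq_true, List.all_eq_true, List.mem_range, beq_iff_eq] at h
  rcases Nat.lt_or_ge i (li.length / 2 + 1) with hi | hi
  · exact h.2 i hi
  · rw [List.getD_eq_default _ _ (by omega), List.getD_eq_default _ _ (by omega)]
    rfl

theorem letOK_expand {li : List (List ℕ)} (h : liOK li = true) (w : List ℕ) :
    letOK (expand li w) = true := by
  induction w with
  | nil => rfl
  | cons l w ih => exact letOK_append (liOK_let h l) ih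

/-- the generators of the subgroup -/
noncomputable def xOf (li : List (List ℕ)) (i : ℕ) : HeG := el (li.getD (2 * i) [])

theorem evL_xOf {li : List (List ℕ)} (h : liOK li = true) (l : ℕ) :
    evL (xOf li) l = el (li.getD l []) := by
  unfold evL xOf
  rcases Nat.mod_two_eq_zero_or_one l with hl | hl
  · rw [if_pos hl, show 2 * (l / 2) = l by omega]
  · rw [if_neg (by omega), ← el_invHW, ← liOK_inv h, show 2 * (l / 2) + 1 = l by omega]

theorem ev_xOf {li : List (List ℕ)} (h : liOK li = true) (w : List ℕ) :
    ev (xOf li) w = el (expand li w) := by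
  induction w with
  | nil => exact el_nil.symm
  | cons l w ih => rw [ev_cons, ih, evL_xOf h, expand, el_append]

/-! ### packed tables -/

/-- evaluate a natural number first -/
def withN {α : Type} [Inhabited α] (v : ℕ) (f : ℕ → α) : α :=
  match v + 1 with
  | 0 => default
  | n + 1 => f n

theorem withN_eq {α : Type} [Inhabited α] (v : ℕ) (f : ℕ → α) : withN v f = f v := rfl

/-- field `i` of width `w` of a packed table -/
def fd (T w i : ℕ) : ℕ :=
  Nat.land (Nat.shiftRight T (Nat.mul w i)) (Nat.sub (Nat.shiftLeft 1 w) 1)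

/-- chunk `q` of a two-level table -/
def chunk (L : List (List ℕ)) (q : ℕ) : ℕ := (L.getD (q / 16) []).getD (q % 16) 0

/-- the keys `kf` are strictly increasing along the sorting map `sig` -/
def sortedK (kf : ℕ → ℕ) (n w sig : ℕ) : Bool :=
  (List.range (n - 1)).all fun k =>
    withN (fd sig w k) fun a => withN (fd sig w (k + 1)) fun b =>
      decide (a < n) && decide (b < n) && decide (kf a < kf b)

theorem sortedK_spec {kf : ℕ → ℕ} {n w sig : ℕ} (h : sortedK kf n w sig = true) (k : ℕ)
    (hk : k + 1 < n) :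
    fd sig w k < n ∧ fd sig w (k + 1) < n ∧ kf (fd sig w k) < kf (fd sig w (k + 1)) := by
  simp only [sortedK, List.all_eq_true, List.mem_range, withN_eq, Bool.and_eq_true,
    decide_eq_true_eq] at h
  obtain ⟨⟨h1, h2⟩, h3⟩ := h k (by omega)
  exact ⟨h1, h2, h3⟩

/-! ### the checks -/

/-- the check of the relators and of the words with zero exponent sums -/
noncomputable def relChk (li : List (List ℕ)) (a m k : ℕ) (relsL zwsL : List (List ℕ)) : Bool :=
  ((List.range m).all fun b => fixB (expand li (relsL.getD b []))) &&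
  ((List.range k).all fun i => fixB (expand li (zwsL.getD i [] ++ [2 * i + 1])) &&
    (if i < a then zwsL.getD i [] == [2 * i] else Cert.isZero (esum (zwsL.getD i []))))

/-- the check of the key of a node -/
noncomputable def nodeChk (li : List (List ℕ)) (C : Cert) (kf : ℕ → ℕ) (c : ℕ) : Bool :=
  Nat.beq (keyW (expand li (C.tw c))) (kf c)

/-- the check of the keys of a range of nodes -/
noncomputable def nodeRange (li : List (List ℕ)) (C : Cert) (kf : ℕ → ℕ) (lo len : ℕ) : Bool :=
  (List.range len).all fun i => nodeChk li C kf (lo + i)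

theorem nodeRange_spec {li : List (List ℕ)} {C : Cert} {kf : ℕ → ℕ} {lo len : ℕ}
    (h : nodeRange li C kf lo len = true) {c : ℕ} (h1 : lo ≤ c) (h2 : c < lo + len) :
    nodeChk li C kf c = true := by
  simp only [nodeRange, List.all_eq_true, List.mem_range] at h
  have := h (c - lo) (by omega)
  rwa [show lo + (c - lo) = c by omega] at this

/-! ### the main theorem -/

theorem he_glue {Γ : Type} [Group Γ] [Finite Γ] (σ : Γ →* HeG)
    (hσ : Cfsg.IsStemExtension σ) (C : Cert) (a k m : ℕ) (relsL zwsL : List (List ℕ))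
    (li : List (List ℕ)) (kf : ℕ → ℕ) (w sig : ℕ)
    (hnl : C.nl = 2 * k)
    (hbase : C.base = mkBase m k (fun b => relsL.getD b []) (fun i => zwsL.getD i []))
    (hk : li.length = 2 * k) (hzl : zwsL.length = k) (hak : a ≤ k)
    (hli : liOK li = true) (hrel : relChk li a m k relsL zwsL = true)
    (hnode : ∀ c < C.N, nodeChk li C kf c = true)
    (hsorted : sortedK kf C.N w sig = true)
    (htw0 : C.tw 0 = []) (hN : 0 < C.N)
    (hchk : ∀ c l, c < C.N → l < C.nl → C.chkEdge c l = true) :
    Nat.card (Subgroup.closure (Set.range (xOf li))) = C.N ∧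
    ∃ X z : ℕ → Γ, (∀ i, σ (X i) = xOf li i) ∧ (∀ j, z j ∈ σ.ker) ∧ (∀ j, m ≤ j → z j = 1) ∧
      (∀ bd b s ρ, C.relVec bd b s = some ρ → zpv z 0 ρ = 1) ∧
      (∀ bd w v, C.walk bd 0 w = some (0, v) → ev X w = zpv z 0 v) ∧
      ∀ g ∈ σ.ker, ∃ w : List ℤ,
        g ^ (Subgroup.closure (Set.range (xOf li))).index = zpv z 0 w ∧
          ∀ i < a, trk (fun b => relsL.getD b []) i w = 0 := by
  simp only [relChk, Bool.and_eq_true, List.all_eq_true, List.mem_range] at hrel
  obtain ⟨hr1, hr2⟩ := hrel
  have hinjT : ∀ i j, i < C.N → j < C.N → kf i = kf j → i = j := by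
    intro i j hi hj e
    exact Cfsg.Agent.Helper98.J3.inj_of_sorted kf (fun k => fd sig w k) C.N
      (fun k hk => sortedK_spec hsorted k hk) hi hj e
  refine stem_gen σ hσ C a k m (fun b => relsL.getD b []) (fun i => zwsL.getD i [])
    (xOf li) hnl hbase ?_ ?_ ?_ ?_ ?_ ?_ ?_ htw0 hN hchk
  · intro i hi
    unfold xOf
    rw [List.getD_eq_default _ _ (by omega)]
    exact el_nil
  · intro i hi
    exact List.getD_eq_default _ _ (by omega)
  · intro b hb
    rw [ev_xOf hli]
    exact el_eq_one (hr1 b hb)
  · intro i hi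
    have h1 := el_eq_one (hr2 i hi).1
    rw [← ev_xOf hli, ev_append, ev_singleton] at h1
    have h2 : evL (xOf li) (2 * i + 1) = (xOf li i)⁻¹ := by
      unfold evL
      rw [if_neg (by omega)]
      congr 2
      omega
    rw [h2] at h1
    exact mul_inv_eq_one.1 h1
  · intro i hi
    have := (hr2 i (by omega)).2
    rw [if_pos hi] at this
    exact beq_iff_eq.1 this
  · intro i hai hi
    have := (hr2 i hi).2
    rw [if_neg (by omega)] at this
    exact this
  · intro c hc c' hc' e
    rw [ev_xOf hli, ev_xOf hli] at e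
    have h1 := keyW_eq_of_el_eq (letOK_expand hli _) (letOK_expand hli _) e
    have h2 := Nat.eq_of_beq_eq_true (hnode c hc)
    have h3 := Nat.eq_of_beq_eq_true (hnode c' hc')
    exact hinjT c c' hc hc' (by rw [← h2, ← h3, h1])

end Cfsg.Agent.Helper98.HeM
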