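import Mathlib
import Cfsg.Prelude.Def_KGroupFacts
import Cfsg.Agent.Helper96.StemBound

/-!
# Reduction of the triviality of the kernels of stem extensions to kernels of prime exponent

If the kernel of every finite stem extension of `G` all of whose elements have `p`-th power one is
trivial, for every prime `p`, then the kernel of every finite stem extension of `G` is trivial:
divide by the subgroup of the `p`-th powers of the elements of the kernel.
-/

set_option autoImplicit false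

namespace Cfsg.Agent.Helper98.HeM

universe u v

variable {Γ : Type u} {G : Type v} [Group Γ] [Group G]

/-- the `p`-th powers of the elements of a central subgroup -/
def powSub (K : Subgroup Γ) (hK : K ≤ Subgroup.center Γ) (p : ℕ) : Subgroup Γ where
  carrier := {g | ∃ k ∈ K, k ^ p = g}
  one_mem' := ⟨1, K.one_mem, one_pow p⟩
  mul_mem' := by
    rintro _ _ ⟨k₁, h₁, rfl⟩ ⟨k₂, h₂, rfl⟩
    refine ⟨k₁ * k₂, K.mul_mem h₁ h₂, ?_⟩
    have hc : Commute k₁ k₂ := Subgroup.mem_center_iff.1 (hK h₂) k₁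
    exact hc.mul_pow p
  inv_mem' := by
    rintro _ ⟨k, h, rfl⟩
    exact ⟨k⁻¹, K.inv_mem h, inv_pow k p⟩

theorem powSub_le (K : Subgroup Γ) (hK : K ≤ Subgroup.center Γ) (p : ℕ) : powSub K hK p ≤ K := by
  rintro _ ⟨k, h, rfl⟩
  exact K.pow_mem h p

instance powSub_normal (K : Subgroup Γ) (hK : K ≤ Subgroup.center Γ) (p : ℕ) :
    (powSub K hK p).Normal where
  conj_mem := by
    intro n hn g
    have hc : n ∈ Subgroup.center Γ := hK (powSub_le K hK p hn)
    have : g * n * g⁻¹ = n := by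
      rw [Subgroup.mem_center_iff.1 hc g, mul_assoc, mul_inv_cancel, mul_one]
    rwa [this]

theorem ker_eq_bot_of_exponent [Finite G]
    (h : ∀ p : ℕ, p.Prime → ∀ (Δ : Type u) [Group Δ] [Finite Δ] (τ : Δ →* G),
      Cfsg.IsStemExtension τ → (∀ k ∈ τ.ker, k ^ p = 1) → τ.ker = ⊥)
    [Finite Γ] (σ : Γ →* G) (hσ : Cfsg.IsStemExtension σ) : σ.ker = ⊥ := by
  classical
  by_contra hne
  have hcard : Nat.card σ.ker ≠ 1 := by
    intro h1
    exact hne (Subgroup.card_eq_one.1 h1)
  obtain ⟨p, hp, hdvd⟩ := Nat.exists_prime_and_dvd hcard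
  have : Fact p.Prime := ⟨hp⟩
  obtain ⟨k0, hk0⟩ := exists_prime_orderOf_dvd_card' (G := σ.ker) p hdvd
  -- the quotient
  let K0 := powSub σ.ker hσ.2.1 p
  have hK0 : K0 ≤ σ.ker := powSub_le _ _ _
  let τ : Γ ⧸ K0 →* G := QuotientGroup.lift K0 σ (fun g hg => MonoidHom.mem_ker.1 (hK0 hg))
  have hτmk : ∀ g : Γ, τ (QuotientGroup.mk g) = σ g := fun g => rfl
  have hτ : Cfsg.IsStemExtension τ := by
    refine ⟨?_, ?_, ?_⟩
    · intro y
      obtain ⟨g, rfl⟩ := hσ.1 y
      exact ⟨QuotientGroup.mk g, rfl⟩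
    · intro y hy
      obtain ⟨g, rfl⟩ := QuotientGroup.mk_surjective y
      rw [MonoidHom.mem_ker, hτmk] at hy
      have hc := hσ.2.1 (MonoidHom.mem_ker.2 hy)
      rw [Subgroup.mem_center_iff]
      intro y'
      obtain ⟨g', rfl⟩ := QuotientGroup.mk_surjective y'
      rw [← QuotientGroup.mk_mul, ← QuotientGroup.mk_mul, Subgroup.mem_center_iff.1 hc g']
    · intro y hy
      obtain ⟨g, rfl⟩ := QuotientGroup.mk_surjective y
      rw [MonoidHom.mem_ker, hτmk] at hy
      have hc : g ∈ commutator Γ := hσ.2.2 (MonoidHom.mem_ker.2 hy)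
      have hmap : (commutator Γ).map (QuotientGroup.mk' K0) ≤ commutator (Γ ⧸ K0) := by
        show Subgroup.map (QuotientGroup.mk' K0) ⁅(⊤ : Subgroup Γ), (⊤ : Subgroup Γ)⁆ ≤
          ⁅(⊤ : Subgroup (Γ ⧸ K0)), (⊤ : Subgroup (Γ ⧸ K0))⁆
        rw [Subgroup.map_commutator]
        exact Subgroup.commutator_mono le_top le_top
      exact hmap ⟨g, hc, rfl⟩
  have hexp : ∀ y ∈ τ.ker, y ^ p = 1 := by
    intro y hy
    obtain ⟨g, rfl⟩ := QuotientGroup.mk_surjective y
    rw [MonoidHom.mem_ker, hτmk] at hy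
    rw [← QuotientGroup.mk_pow, QuotientGroup.eq_one_iff]
    exact ⟨g, MonoidHom.mem_ker.2 hy, rfl⟩
  have hbot := h p hp (Γ ⧸ K0) τ hτ hexp
  -- every element of the kernel is a `p`-th power
  have hpow : ∀ g ∈ σ.ker, ∃ k ∈ σ.ker, k ^ p = g := by
    intro g hg
    have : (QuotientGroup.mk g : Γ ⧸ K0) ∈ τ.ker := by
      rw [MonoidHom.mem_ker, hτmk]; exact MonoidHom.mem_ker.1 hg
    rw [hbot, Subgroup.mem_bot, QuotientGroup.eq_one_iff] at this
    exact this
  -- the `p`-th power map of the kernel is injective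
  have hcomm : ∀ a b : σ.ker, a * b = b * a := by
    intro a b
    apply Subtype.ext
    exact (Subgroup.mem_center_iff.1 (hσ.2.1 a.2) b.1).symm
  let f : σ.ker → σ.ker := fun k => k ^ p
  have hsurj : Function.Surjective f := by
    rintro ⟨g, hg⟩
    obtain ⟨k, hk, e⟩ := hpow g hg
    exact ⟨⟨k, hk⟩, Subtype.ext e⟩
  have hinj : Function.Injective f := Finite.injective_iff_surjective.2 hsurj
  have h1 : f k0 = f 1 := by
    show k0 ^ p = 1 ^ p
    rw [one_pow, ← hk0, pow_orderOf_eq_one]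
  have h2 : k0 = 1 := hinj h1
  rw [h2, orderOf_one] at hk0
  exact hp.one_lt.ne hk0

end Cfsg.Agent.Helper98.HeM
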